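import Mathlib
import Cfsg.Agent.Lib.Blocks.Correspondents
import Cfsg.Agent.Lib.Blocks.HarrisKnorr
import Cfsg.Agent.BlockCharsA.PairLocal

/-!
# Blocks of intermediate groups induced from a root block
-/

set_option linter.style.haveILetI false
set_option linter.unusedSectionVars false

namespace Cfsg.Agent.BlockCharsA.HeightInertial

open Cfsg.Agent.Blocks Cfsg.Agent.Characters Cfsg.Agent.BlockCharsA
open Cfsg.Agent.BlockCharsA.Transport Cfsg.Agent.BlockCharsA.BrauerPairs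

universe u

variable {G : Type u} [Group G] [Finite G] {p : ℕ} {M : Ideal Cfsg.AlgInt}

/-- The correspondents of a block with defect group `P`, with the subgroup named. -/
theorem correspondents_conj_of_eq (hM : Cfsg.IsPModular p M) {P H : Subgroup G}
    (hH : H = P ⊔ Subgroup.centralizer (P : Set G)) {B : Set (Cfsg.IrrCharacter G)}
    (hP : Cfsg.IsDefectGroup p M B P) {b b' : Set (Cfsg.IrrCharacter H)}
    (hind : Cfsg.IsInducedBlock M H b B) (hind' : Cfsg.IsInducedBlock M H b' B) :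
    ∃ n ∈ Subgroup.normalizer (P : Set G), ∀ θ ∈ b, ∃ θ' ∈ b',
      ∀ x : H, ∀ hx : n * (x : G) * n⁻¹ ∈ H,
        (θ' : H → ℂ) x = (θ : H → ℂ) ⟨n * (x : G) * n⁻¹, hx⟩ := by
  subst hH
  exact correspondents_conj hM hP hind hind'

/-- `β` is the block of `C` induced from the block `b` of `H`. -/
def IsUp (M : Ideal Cfsg.AlgInt) (H : Subgroup G) (b : Set (Cfsg.IrrCharacter H)) (C : Subgroup G)
    (β : Set (Cfsg.IrrCharacter C)) : Prop :=
  ∃ h : H ≤ C, Cfsg.IsInducedBlock M (H.subgroupOf C)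
    (pullSet (Subgroup.subgroupOfEquivOfLe h).symm b) β

variable {D H : Subgroup G} {b : Set (Cfsg.IrrCharacter H)} {B : Set (Cfsg.IrrCharacter G)}
  {C : Subgroup G} {β : Set (Cfsg.IrrCharacter C)}

theorem le_normalizer_root (hH : H = D ⊔ Subgroup.centralizer (D : Set G)) :
    H ≤ Subgroup.normalizer (D : Set G) :=
  hH ▸ sup_le Subgroup.le_normalizer (centralizer_le_normalizer' D)

theorem root_facts (hH : H = D ⊔ Subgroup.centralizer (D : Set G)) (h : H ≤ C) :
    D.subgroupOf C ≤ H.subgroupOf C ∧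
    Subgroup.centralizer ((D.subgroupOf C : Subgroup C) : Set C) ≤ H.subgroupOf C ∧
    H.subgroupOf C ≤ Subgroup.normalizer ((D.subgroupOf C : Subgroup C) : Set C) := by
  have hDH : D ≤ H := hH ▸ le_sup_left
  refine ⟨fun x hx => hDH hx, fun x hx => Subgroup.mem_subgroupOf.2 ?_, fun x hx => ?_⟩
  · exact hH ▸ Subgroup.mem_sup_right
      ((mem_centralizer_subgroupOf (hDH.trans h)).1 hx)
  · refine Subgroup.mem_normalizer_iff.2 fun d => ?_
    simp only [Subgroup.mem_subgroupOf, Subgroup.coe_mul, Subgroup.coe_inv]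
    exact Subgroup.mem_normalizer_iff.1 (le_normalizer_root hH hx) d

theorem exists_up (hM : Cfsg.IsPModular p M) (hH : H = D ⊔ Subgroup.centralizer (D : Set G))
    (hDp : IsPGroup p D) (hb : Cfsg.IsPBlock M b) (h : H ≤ C) :
    ∃ β : Set (Cfsg.IrrCharacter C), IsUp M H b C β := by
  obtain ⟨h1, h2, h3⟩ := root_facts hH h
  obtain ⟨β, hβ⟩ := inducedBlockDefined_of_brauer hM
    (isPGroup_subgroupOf hDp ((hH ▸ le_sup_left : D ≤ H).trans h)) h1 h2 h3
    (isPBlock_pullSet hM (Subgroup.subgroupOfEquivOfLe h).symm hb)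
  exact ⟨β, h, hβ⟩

theorem up_unique (hM : Cfsg.IsPModular p M) {β' : Set (Cfsg.IrrCharacter C)}
    (h : IsUp M H b C β) (h' : IsUp M H b C β') : β = β' := by
  obtain ⟨_, h⟩ := h
  obtain ⟨_, h'⟩ := h'
  exact isInduced_unique hM h h'

theorem up_induced (hM : Cfsg.IsPModular p M) (hu : IsUp M H b C β)
    (hind : Cfsg.IsInducedBlock M H b B) : Cfsg.IsInducedBlock M C β B := by
  obtain ⟨h, hi⟩ := hu
  obtain ⟨ξ, hξ⟩ := block_nonempty hM hind.1
  obtain ⟨η, hη⟩ := block_nonempty hM hi.2.1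
  obtain ⟨χ, hχ⟩ := block_nonempty hM hind.2.1
  refine isInduced_of_omega hM hi.2.1 hind.2.1 hη hχ fun g => ?_
  have hcs := central_classSum g
  have his := intEl_classSum hM g
  refine cong_trans hM (cong_symm hM (omega_cong_of_isInduced hM hi (symm_mem_pullSet hξ) hη
    (central_restrEl C hcs) (intEl_restrEl C his))) ?_
  rw [omega_iso (Subgroup.subgroupOfEquivOfLe h).symm (z := restrEl H (classSum g)) fun k => by
      rw [coeff_restrEl, coeff_restrEl, coeff_restrEl]; rfl]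
  rw [← omega_classSum (irr_isClassFunction χ)]
  have : (((irrIso (Subgroup.subgroupOfEquivOfLe h).symm).symm ξ :
      Cfsg.IrrCharacter (H.subgroupOf C)) : H.subgroupOf C → ℂ) ∘
      (Subgroup.subgroupOfEquivOfLe h).symm = (ξ : H → ℂ) := funext fun x => by
    rw [Function.comp_apply, irrIso_symm_apply, MulEquiv.symm_apply_apply]
  rw [this]
  exact omega_cong_of_isInduced hM hind hξ hχ hcs his

theorem up_defect (hM : Cfsg.IsPModular p M) (hH : H = D ⊔ Subgroup.centralizer (D : Set G))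
    (hD : Cfsg.IsDefectGroup p M B D) (hind : Cfsg.IsInducedBlock M H b B)
    (hu : IsUp M H b C β) :
    Cfsg.IsDefectGroup p M β (D.subgroupOf C) ∧
      Cfsg.blockDefect p β = Cfsg.blockDefect p B := by
  haveI := fact_prime_of_pm hM
  have hiB := up_induced hM hu hind
  obtain ⟨h, hi⟩ := hu
  have hDH : D ≤ H := hH ▸ le_sup_left
  obtain ⟨D₀, hD₀⟩ := exists_defectGroup hM hind.1
  haveI := normal_subgroupOf (le_normalizer_root hH)
  have hle₀ : D.subgroupOf H ≤ D₀ :=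
    normal_le_defect hM (isPGroup_subgroupOf (isPGroup_defect hD) hDH) hind.1 hD₀
  obtain ⟨E, hE, hE'⟩ := exists_defect_le_of_induced hM hi
    (HarrisKnorr.isDefectGroup_iso (Subgroup.subgroupOfEquivOfLe h).symm hD₀)
  obtain ⟨F, hF, hF'⟩ := exists_defect_le_of_induced hM hiB hE
  have hDE : D.subgroupOf C ≤ E := fun x hx =>
    hE' ⟨(Subgroup.subgroupOfEquivOfLe h).symm ⟨(x : G), hDH hx⟩,
      ⟨_, hle₀ (show (⟨(x : G), hDH hx⟩ : H) ∈ D.subgroupOf H from hx), rfl⟩, rfl⟩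
  have hcard : Nat.card E ≤ Nat.card (D.subgroupOf C) := by
    rw [Nat.card_congr (Subgroup.subgroupOfEquivOfLe (hDH.trans h)).toEquiv,
      card_defectGroup hM hind.2.1 hD, ← card_defectGroup hM hind.2.1 hF,
      ← Subgroup.card_map_of_injective (f := C.subtype) C.subtype_injective]
    exact Subgroup.card_le_of_le hF'
  obtain rfl := eq_of_le_of_card_le hDE hcard
  refine ⟨hE, Nat.pow_right_injective hM.1.two_le ?_⟩
  show p ^ _ = p ^ _
  rw [← card_defectGroup hM hi.2.1 hE, ← card_defectGroup hM hind.2.1 hD]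
  exact Nat.card_congr (Subgroup.subgroupOfEquivOfLe (hDH.trans h)).toEquiv

set_option maxHeartbeats 1000000 in
/-- A conjugation carrying one induced block to another is, up to the bigger group, in the inertia
group of the root block. -/
theorem exists_mem_inertia (hM : Cfsg.IsPModular p M)
    (hH : H = D ⊔ Subgroup.centralizer (D : Set G))
    (hD : Cfsg.IsDefectGroup p M B D) (hind : Cfsg.IsInducedBlock M H b B) {T : Subgroup G}
    (hT : ∀ g : G, g ∈ T ↔ (g ∈ Subgroup.normalizer (D : Set G) ∧ ∀ θ ∈ b,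
      ∀ θ' : Cfsg.IrrCharacter H, (∀ h h' : H, (h' : G) = g * h * g⁻¹ →
        (θ' : H → ℂ) h' = (θ : H → ℂ) h) → θ' ∈ b))
    {C₀ : Subgroup G} {β₀ : Set (Cfsg.IrrCharacter C₀)} (hu₀ : IsUp M H b C₀ β₀)
    (hu : IsUp M H b C β) {g : G} (hg : ∀ k, k ∈ C₀ ↔ g * k * g⁻¹ ∈ C)
    (hrel : ∀ (k : G) (hk : k ∈ C₀),
      Cfsg.blockCoeff β ⟨g * k * g⁻¹, (hg k).1 hk⟩ = Cfsg.blockCoeff β₀ ⟨k, hk⟩) :
    ∃ c ∈ C, c * g ∈ T := by
  classical
  haveI := fact_prime_of_pm hM
  have hdef₀ := (up_defect hM hH hD hind hu₀).1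
  have hdef := (up_defect hM hH hD hind hu).1
  have hDp := isPGroup_defect hD
  obtain ⟨h₀, hi₀⟩ := hu₀
  obtain ⟨h, hi⟩ := hu
  have hDH : D ≤ H := hH ▸ le_sup_left
  have hDC : D ≤ C := hDH.trans h
  have hDC₀ : D ≤ C₀ := hDH.trans h₀
  let σ : C₀ ≃* C :=
    { toFun := fun k => ⟨g * k * g⁻¹, (hg k).1 k.2⟩
      invFun := fun k => ⟨g⁻¹ * k * g, (hg _).2 (by simp [mul_assoc])⟩
      left_inv := fun k => Subtype.ext (by simp [mul_assoc])
      right_inv := fun k => Subtype.ext (by simp [mul_assoc])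
      map_mul' := fun a c => Subtype.ext (by simp [mul_assoc]) }
  have hσ : ∀ k : C₀, ((σ k : C) : G) = g * k * g⁻¹ := fun k => rfl
  have hβeq : pullSet σ β₀ = β := PairLocal.set_eq_of_blockCoeff fun k => by
    conv_lhs => rw [← σ.apply_symm_apply k]
    rw [blockCoeff_pullSet]
    have := hrel (σ.symm k : G) (σ.symm k).2
    rw [show (⟨g * (σ.symm k : G) * g⁻¹, (hg _).1 (σ.symm k).2⟩ : C) = k from
      (Subtype.ext (hσ _).symm).trans (σ.apply_symm_apply k)] at this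
    exact this.symm
  have hdef₀' := HarrisKnorr.isDefectGroup_iso σ hdef₀
  rw [hβeq] at hdef₀'
  obtain ⟨x, hx⟩ := exists_defectGroup_conj_eq hM hi.2.1 hdef₀' hdef
  set n := (x : G) * g with hn
  have hnN : n ∈ Subgroup.normalizer (D : Set G) := by
    refine HarrisKnorr.mem_normalizer_of_conj_mem fun d hd => ?_
    have hm : MulAut.conj x (σ ⟨d, hDC₀ hd⟩) ∈ D.subgroupOf C := by
      rw [hx]
      exact ⟨_, ⟨⟨d, hDC₀ hd⟩, hd, rfl⟩, rfl⟩
    rw [Subgroup.mem_subgroupOf, MulAut.conj_apply] at hm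
    simp only [Subgroup.coe_mul, Subgroup.coe_inv, hσ] at hm
    convert hm using 1
    rw [hn]; group
  have hconjH : ∀ u ∈ Subgroup.normalizer (D : Set G), ∀ y ∈ H, u * y * u⁻¹ ∈ H := by
    subst hH
    exact fun u hu y hy => sup_centralizer_conj hu hy
  have hnH : n ∈ Subgroup.normalizer (H : Set G) := HarrisKnorr.mem_normalizer_of_conj_mem
    fun y hy => hconjH n hnN y hy
  have hnC : ∀ k ∈ C₀, n * k * n⁻¹ ∈ C := fun k hk => by
    rw [show n * k * n⁻¹ = (x : G) * (g * k * g⁻¹) * (x : G)⁻¹ by rw [hn]; group]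
    exact C.mul_mem (C.mul_mem x.2 ((hg k).1 hk)) (C.inv_mem x.2)
  have hreln : ∀ (k : G) (hk : k ∈ C₀),
      Cfsg.blockCoeff β ⟨n * k * n⁻¹, hnC k hk⟩ = Cfsg.blockCoeff β₀ ⟨k, hk⟩ := by
    intro k hk
    rw [← hrel k hk, ← coeff_blockIdem, ← coeff_blockIdem]
    rw [show (⟨n * k * n⁻¹, hnC k hk⟩ : C) = x * ⟨g * k * g⁻¹, (hg k).1 hk⟩ * x⁻¹ from
      Subtype.ext (by simp only [hn, Subgroup.coe_mul, Subgroup.coe_inv]; group)]
    exact central_blockIdem β _ x
  set τ : H ≃* H := conjK hnH with hτ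
  set e := (Subgroup.subgroupOfEquivOfLe h).symm with he
  set e₀ := (Subgroup.subgroupOfEquivOfLe h₀).symm with he₀
  set bn := pullSet τ b with hbn
  obtain ⟨ξ, hξ⟩ : ∃ ξ, ξ ∈ b := by
    obtain ⟨θ, hθ⟩ := block_nonempty hM hind.1
    exact ⟨θ, hθ⟩
  obtain ⟨f1, f2, f3⟩ := root_facts hH h
  obtain ⟨k1, k2, k3⟩ := root_facts hH h₀
  have hbnB : Cfsg.IsPBlock M (pullSet e bn) :=
    isPBlock_pullSet hM e (isPBlock_pullSet hM τ hind.1)
  have hib : Cfsg.IsInducedBlock M (H.subgroupOf C) (pullSet e bn) β := by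
    rw [isInduced_iff_omega_brEl hM (isPGroup_subgroupOf hDp hDC) f1 f2 f3 hbnB
      (symm_mem_pullSet (symm_mem_pullSet hξ)) hi.2.1]
    set ρ : H.subgroupOf C₀ ≃* H.subgroupOf C := e₀.symm.trans (τ.trans e)
    have hρ : ∀ k : H.subgroupOf C₀,
        ((ρ k : C) : G) = n * ((k : C₀) : G) * n⁻¹ := fun k => rfl
    rw [omega_iso ρ (z := brEl (D.subgroupOf C₀) (H.subgroupOf C₀) (blockIdem β₀)) fun k => ?_]
    · rw [show (((irrIso e).symm ((irrIso τ).symm ξ) : Cfsg.IrrCharacter (H.subgroupOf C)) :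
          H.subgroupOf C → ℂ) ∘ ρ = (((irrIso e₀).symm ξ : Cfsg.IrrCharacter (H.subgroupOf C₀)) :
          H.subgroupOf C₀ → ℂ) from funext fun k => by
        simp [ρ, irrIso_symm_apply]]
      exact (isInduced_iff_omega_brEl hM (isPGroup_subgroupOf hDp hDC₀) k1 k2 k3 hi₀.1
        (symm_mem_pullSet hξ) hi₀.2.1).1 hi₀
    · rw [brEl, brEl, coeff_restrEl, coeff_restrEl]
      have hiff := Subgroup.mem_normalizer_iff.1 (normalizer_le_normalizer_centralizer D hnN)
        ((k : C₀) : G)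
      by_cases hk : ((k : C₀) : G) ∈ Subgroup.centralizer (D : Set G)
      · rw [cutEl_coeff_mem _ ((mem_centralizer_subgroupOf hDC).2 (hρ k ▸ hiff.1 hk)),
          cutEl_coeff_mem _ ((mem_centralizer_subgroupOf hDC₀).2 hk), coeff_blockIdem,
          coeff_blockIdem]
        exact hreln _ (k : C₀).2
      · rw [cutEl_coeff_notMem _ fun h' => hk (hiff.2 (hρ k ▸ (mem_centralizer_subgroupOf hDC).1 h')),
          cutEl_coeff_notMem _ fun h' => hk ((mem_centralizer_subgroupOf hDC₀).1 h')]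
  have hHC : H.subgroupOf C =
      D.subgroupOf C ⊔ Subgroup.centralizer ((D.subgroupOf C : Subgroup C) : Set C) := by
    refine le_antisymm ?_ (sup_le f1 f2)
    have hcd : Subgroup.centralizer (D : Set G) ≤ C := (hH ▸ le_sup_right : _ ≤ H).trans h
    rw [hH, Subgroup.subgroupOf_sup hDC hcd]
    refine sup_le_sup le_rfl fun y hy => ?_
    exact (mem_centralizer_subgroupOf hDC).2 hy
  obtain ⟨m, hm, hcor⟩ := correspondents_conj_of_eq hM hHC hdef hib hi
  have hmN : (m : G) ∈ Subgroup.normalizer (D : Set G) := by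
    refine HarrisKnorr.mem_normalizer_of_conj_mem fun d hd => ?_
    exact (Subgroup.mem_normalizer_iff.1 hm ⟨d, hDC hd⟩).1 hd
  refine ⟨(m : G)⁻¹ * x, C.mul_mem (C.inv_mem m.2) x.2, ?_⟩
  rw [mul_assoc, ← hn]
  refine (hT _).2 ⟨Subgroup.mul_mem _ (Subgroup.inv_mem _ hmN) hnN, fun θ hθ θ'' hθ'' => ?_⟩
  obtain ⟨θ', hθ', hval⟩ := hcor ((irrIso e).symm ((irrIso τ).symm θ))
    (symm_mem_pullSet (symm_mem_pullSet hθ))
  have : irrIso e θ' = θ'' := by
    refine Subtype.ext (funext fun y => ?_)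
    have hy1 : (m : G) * y * (m : G)⁻¹ ∈ H := hconjH _ hmN y y.2
    have hy2 : n⁻¹ * ((m : G) * y * (m : G)⁻¹) * n ∈ H := by
      have := hconjH _ (Subgroup.inv_mem _ hnN) _ hy1
      rwa [inv_inv] at this
    rw [irrIso_apply, hval (e y) (Subgroup.mem_subgroupOf.2 hy1),
      hθ'' ⟨_, hy2⟩ y (by show (y : G) = _; group), irrIso_symm_apply, irrIso_symm_apply]
    exact congrArg (θ : H → ℂ) (Subtype.ext rfl)
  exact this ▸ hθ'

end Cfsg.Agent.BlockCharsA.HeightInertial
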