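import Mathlib
import Cfsg.Agent.BlockCharsA.RegularPart
import Cfsg.Agent.Lib.Characters.Galois

/-!
# Positive integers of a cyclotomic field divisible by a power of `p`
-/

set_option linter.style.haveILetI false

namespace Cfsg.Agent.BlockCharsA.HeightInertial

open Cfsg.Agent.Blocks Cfsg.Agent.Characters Cfsg.Agent.BlockCharsA.RegularPart Polynomial

variable {p : ℕ} {M : Ideal Cfsg.AlgInt}

theorem ring_prod (hM : Cfsg.IsPModular p M) {ι : Type*} {s : Finset ι} {f : ι → ℂ}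
    (h : ∀ i ∈ s, Cfsg.MemLocalRing M (f i)) : Cfsg.MemLocalRing M (∏ i ∈ s, f i) :=
  Finset.prod_induction f (Cfsg.MemLocalRing M) (fun _ _ => ring_mul hM) (ring_one hM) h

/-- If all conjugates of an algebraic integer are positive and divisible by `p ^ h` at one place,
their mean is at least `p ^ h`. -/
theorem mean_ge (hM : Cfsg.IsPModular p M) {q : ℕ} (hq : 0 < q) (P : ℚ[X]) (h : ℕ) (r : ℂ → ℝ)
    (hint : ∀ μ ∈ primitiveRoots q ℂ, IsIntegral ℤ (aeval μ P))
    (hr : ∀ μ ∈ primitiveRoots q ℂ, 0 < r μ ∧ aeval μ P = (r μ : ℂ))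
    (hdiv : ∀ μ ∈ primitiveRoots q ℂ, Cfsg.MemLocalRing M (aeval μ P / (p : ℂ) ^ h)) :
    ((primitiveRoots q ℂ).card : ℝ) * (p : ℝ) ^ h ≤ ∑ μ ∈ primitiveRoots q ℂ, r μ := by
  classical
  set S := primitiveRoots q ℂ with hS
  set m := S.card with hm
  obtain ⟨w, hw⟩ := (exists_rat_sum_prod_primitiveRoots hq P).2
  have hi : IsIntegral ℤ (w : ℂ) := hw ▸ IsIntegral.prod _ hint
  obtain ⟨z, hz⟩ := exists_int_of_isIntegral_ratCast hi
  have hzc : ∏ μ ∈ S, aeval μ P = (z : ℂ) := hw.trans hz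
  have hzr : ∏ μ ∈ S, r μ = (z : ℝ) := by
    apply Complex.ofReal_injective
    push_cast
    rw [← hzc]
    exact (Finset.prod_congr rfl fun μ hμ => (hr μ hμ).2.symm)
  have hdvd : (p : ℤ) ^ (h * m) ∣ z := by
    refine dvd_of_div_ring hM ?_
    have := ring_prod hM hdiv
    rwa [Finset.prod_div_distrib, Finset.prod_const, ← pow_mul, hzc] at this
  have hzpos : (0 : ℤ) < z := by
    have : (0 : ℝ) < z := hzr ▸ Finset.prod_pos fun μ hμ => (hr μ hμ).1
    exact_mod_cast this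
  have hle : ((p : ℝ) ^ h) ^ m ≤ ∏ μ ∈ S, r μ := by
    rw [hzr, ← pow_mul]
    exact_mod_cast Int.le_of_dvd hzpos hdvd
  have hp : (0 : ℝ) < (p : ℝ) ^ h := pow_pos (Nat.cast_pos.2 hM.1.pos) h
  have hlog : 0 ≤ ∑ μ ∈ S, Real.log (r μ / (p : ℝ) ^ h) := by
    rw [← Real.log_prod fun μ hμ => (div_pos (hr μ hμ).1 hp).ne', Finset.prod_div_distrib,
      Finset.prod_const]
    exact Real.log_nonneg ((one_le_div (pow_pos hp _)).2 hle)
  have h2 := hlog.trans (Finset.sum_le_sum fun μ hμ =>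
    Real.log_le_sub_one_of_pos (div_pos (hr μ hμ).1 hp))
  rw [Finset.sum_sub_distrib, sub_nonneg, Finset.sum_const, nsmul_one, ← Finset.sum_div,
    le_div_iff₀ hp] at h2
  exact h2

end Cfsg.Agent.BlockCharsA.HeightInertial
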