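import Mathlib
import Cfsg.Agent.BlockCharsA.Subsection

/-!
# Block parts of a section on the regular elements
-/

set_option linter.style.haveILetI false
set_option linter.unusedSectionVars false

namespace Cfsg.Agent.BlockCharsA.HeightInertial

open Cfsg.Agent.Blocks Cfsg.Agent.Characters Cfsg.Agent.BlockCharsA.RegularPart
open scoped ComplexConjugate

universe u

variable {G : Type u} [Group G] [Finite G] {p : ℕ} {M : Ideal Cfsg.AlgInt}

theorem regSum_conj_symm (f g : G → ℂ) : regSum p g f = conj (regSum p f g) := by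
  classical
  haveI := Fintype.ofFinite G
  rw [regSum_eq_sum, regSum_eq_sum, map_sum]
  refine Finset.sum_congr rfl fun x _ => ?_
  split
  · rw [map_mul, Complex.conj_conj, mul_comm]
  · exact (map_zero _).symm

theorem regSum_sum_left {ι : Type*} (s : Finset ι) (a : ι → ℂ) (f : ι → G → ℂ) (g : G → ℂ) :
    regSum p (fun x => ∑ i ∈ s, a i * f i x) g = ∑ i ∈ s, a i * regSum p (f i) g := by
  classical
  haveI := Fintype.ofFinite G
  simp only [regSum_eq_sum, Finset.mul_sum]
  rw [Finset.sum_comm]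
  refine Finset.sum_congr rfl fun x _ => ?_
  by_cases hx : p ∣ orderOf x
  · simp [hx]
  · simp only [hx, not_false_eq_true, if_true, Finset.sum_mul]
    exact Finset.sum_congr rfl fun i _ => by ring

theorem regSum_sum_right {ι : Type*} (s : Finset ι) (a : ι → ℂ) (f : ι → G → ℂ) (g : G → ℂ) :
    regSum p g (fun x => ∑ i ∈ s, a i * f i x) = ∑ i ∈ s, conj (a i) * regSum p g (f i) := by
  rw [regSum_conj_symm, regSum_sum_left, map_sum]
  exact Finset.sum_congr rfl fun i _ => by rw [map_mul, ← regSum_conj_symm]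

theorem regSum_self_eq (f : G → ℂ) :
    ∃ r : ℝ, 0 ≤ r ∧ regSum p f f = (r : ℂ) ∧
      (r = 0 → ∀ x, ¬ p ∣ orderOf x → f x = 0) := by
  classical
  haveI := Fintype.ofFinite G
  refine ⟨∑ x : G, if ¬ p ∣ orderOf x then ‖f x‖ ^ 2 else 0, Finset.sum_nonneg fun x _ => ?_, ?_,
    fun h x hx => ?_⟩
  · split <;> positivity
  · rw [regSum_eq_sum, Complex.ofReal_sum]
    refine Finset.sum_congr rfl fun x _ => ?_
    split
    · rw [Complex.mul_conj', Complex.ofReal_pow]
    · exact Complex.ofReal_zero.symm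
  · have h1 := (Finset.sum_eq_zero_iff_of_nonneg fun y _ => by split <;> positivity).1 h x
      (Finset.mem_univ _)
    simpa [hx] using h1

theorem regSum_congr_left {f f' g : G → ℂ} (h : ∀ x, ¬ p ∣ orderOf x → f x = f' x) :
    regSum p f g = regSum p f' g := by
  classical
  haveI := Fintype.ofFinite G
  rw [regSum_eq_sum, regSum_eq_sum]
  refine Finset.sum_congr rfl fun x _ => ?_
  by_cases hx : p ∣ orderOf x
  · simp [hx]
  · simp [hx, h x hx]

theorem blockPart_sum [Fintype G] [Fintype (Cfsg.IrrCharacter G)] (b : Set (Cfsg.IrrCharacter G))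
    [DecidablePred (· ∈ b)] (θ : G → ℂ) :
    Cfsg.blockPart b θ = fun x => ∑ η ∈ Finset.univ.filter (· ∈ b),
      Cfsg.classInner θ (η : G → ℂ) * (η : G → ℂ) x := by
  funext x
  rw [ZStar.Principal.blockPart_eq_sum_mul, ZStar.Principal.finsum_mem_eq_sum_filter]
  exact Finset.sum_congr (by ext; simp) fun _ _ => rfl

/-- A class function meets the part of another one in a block only through its own part. -/
theorem regSum_part [Fintype G] (hM : Cfsg.IsPModular p M) {b : Set (Cfsg.IrrCharacter G)}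
    (hb : Cfsg.IsPBlock M b) {θ : G → ℂ} (hθ : Cfsg.IsClassFunction G θ) (φ : G → ℂ) :
    regSum p θ (Cfsg.blockPart b φ) = regSum p (Cfsg.blockPart b θ) (Cfsg.blockPart b φ) := by
  classical
  haveI := Fintype.ofFinite (Cfsg.IrrCharacter G)
  rw [blockPart_sum b φ, blockPart_sum b θ, regSum_sum_right, regSum_sum_right]
  refine Finset.sum_congr rfl fun η hη => congrArg _ ?_
  rw [regSum_sum_left]
  conv_lhs => rw [show θ = fun x => ∑ ξ : Cfsg.IrrCharacter G,
    Cfsg.classInner θ (ξ : G → ℂ) * (ξ : G → ℂ) x from funext fun x => by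
      rw [congrFun (classFun_eq_sum hθ) x, Finset.sum_apply]; rfl]
  rw [regSum_sum_left]
  refine (Finset.sum_subset (Finset.subset_univ _) fun ξ _ hξ => ?_).symm
  rw [regSum_eq_zero_of_not_sameBlock hM fun h => hξ (Finset.mem_filter.2 ⟨Finset.mem_univ _,
    mem_of_sameBlock hM hb (Finset.mem_filter.1 hη).2 (sameBlock_symm hM h)⟩), mul_zero]

/-- The parts of a class function in different blocks use at most its norm. -/
theorem sum_parts_le [Fintype G] (hM : Cfsg.IsPModular p M)
    (S : Finset (Set (Cfsg.IrrCharacter G))) (hS : ∀ b ∈ S, Cfsg.IsPBlock M b) {θ : G → ℂ}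
    (hθ : Cfsg.IsClassFunction G θ) :
    ∑ b ∈ S, (regSum p (Cfsg.blockPart b θ) (Cfsg.blockPart b θ)).re ≤ (regSum p θ θ).re := by
  classical
  haveI := Fintype.ofFinite (Cfsg.IrrCharacter G)
  set T := Finset.univ.image fun η : Cfsg.IrrCharacter G => Cfsg.blockOf M (η : G → ℂ) with hT
  have hTB : ∀ b ∈ T, Cfsg.IsPBlock M b := fun b hb => by
    obtain ⟨η, -, rfl⟩ := Finset.mem_image.1 hb
    exact isPBlock_blockOf M η
  have hsub : S ⊆ T := fun b hb => by
    obtain ⟨η, rfl⟩ := hS b hb
    exact Finset.mem_image_of_mem _ (Finset.mem_univ _)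
  have hdec : θ = fun x => ∑ b ∈ T, 1 * Cfsg.blockPart b θ x := by
    funext x
    rw [congrFun (classFun_eq_sum hθ) x, Finset.sum_apply, ← Finset.sum_fiberwise_of_maps_to
      (t := T) (g := fun η : Cfsg.IrrCharacter G => Cfsg.blockOf M (η : G → ℂ))
      fun η hη => Finset.mem_image_of_mem _ hη]
    refine Finset.sum_congr rfl fun b hb => ?_
    rw [one_mul, congrFun (blockPart_sum b θ) x]
    refine Finset.sum_congr (Finset.filter_congr fun η _ => ?_) fun η _ => rfl
    refine ⟨fun h => h ▸ mem_blockOf_self hM η, fun h => ?_⟩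
    exact (block_eq_blockOf hM (hTB b hb) h).symm
  have htot : (regSum p θ θ).re =
      ∑ b ∈ T, (regSum p (Cfsg.blockPart b θ) (Cfsg.blockPart b θ)).re := by
    conv_lhs => arg 1; arg 3; rw [hdec]
    rw [regSum_sum_right, Complex.re_sum]
    refine Finset.sum_congr rfl fun b hb => ?_
    rw [map_one, one_mul, regSum_part hM (hTB b hb) hθ]
  rw [htot]
  refine Finset.sum_le_sum_of_subset_of_nonneg hsub fun b _ _ => ?_
  obtain ⟨r, hr, he, -⟩ := regSum_self_eq (p := p) (Cfsg.blockPart b θ)
  rw [he, Complex.ofReal_re]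
  exact hr

end Cfsg.Agent.BlockCharsA.HeightInertial
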