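import Mathlib
import Cfsg.Agent.Lib.Blocks.MajorSubsection
import Cfsg.Agent.BlockCharsA.HeightInertial.Parts

/-!
# The self-contribution of a character at a subsection
-/

set_option linter.style.haveILetI false
set_option linter.unusedSectionVars false

namespace Cfsg.Agent.BlockCharsA.HeightInertial

open Cfsg.Agent.Blocks Cfsg.Agent.Characters Cfsg.Agent.BlockCharsA
open Cfsg.Agent.BlockCharsA.RegularPart Polynomial
open scoped ComplexConjugate

universe u

variable {G : Type u} [Group G] [Finite G] {p : ℕ} {M : Ideal Cfsg.AlgInt}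

/-- The block part of `c ↦ χ (y c)`. -/
noncomputable def secPart (C : Subgroup G) (β : Set (Cfsg.IrrCharacter C)) (y : G) (χ : G → ℂ) :
    C → ℂ :=
  Cfsg.blockPart β fun c : C => χ (y * (c : G))

/-- `p ^ d` times the contribution of `χ` to itself. -/
noncomputable def selfW (p : ℕ) (C : Subgroup G) (β : Set (Cfsg.IrrCharacter C)) (y : G)
    (χ : G → ℂ) : ℂ :=
  ((p ^ Cfsg.blockDefect p β : ℕ) : ℂ) / (Nat.card C : ℂ) *
    regSum p (secPart C β y χ) (secPart C β y χ)

theorem selfW_real (C : Subgroup G) (β : Set (Cfsg.IrrCharacter C)) (y : G) (χ : G → ℂ) :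
    ∃ r : ℝ, 0 ≤ r ∧ selfW p C β y χ = (r : ℂ) ∧
      r = ((p ^ Cfsg.blockDefect p β : ℕ) : ℝ) / (Nat.card C : ℝ) *
        (regSum p (secPart C β y χ) (secPart C β y χ)).re := by
  obtain ⟨s, hs, he, -⟩ := regSum_self_eq (p := p) (secPart C β y χ)
  refine ⟨((p ^ Cfsg.blockDefect p β : ℕ) : ℝ) / (Nat.card C : ℝ) * s, by positivity, ?_, ?_⟩
  · rw [selfW, he]
    push_cast
    ring
  · rw [he, Complex.ofReal_re]

theorem classInner_mul_left_central {C : Subgroup G} [Fintype C] {u : C} {q : ℕ} (hq0 : q ≠ 0)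
    (hq : u ^ q = 1) (hu : ∀ c : C, Commute u c) (χ : G → ℂ) (η : Cfsg.IrrCharacter C) :
    Cfsg.classInner (fun c : C => χ ((u : G) * (c : G))) (η : C → ℂ) =
      Cfsg.classInner (fun c : C => χ c) (η : C → ℂ) * ((η : C → ℂ) u / (η : C → ℂ) 1) ∧
    ((η : C → ℂ) u / (η : C → ℂ) 1) ^ q = 1 ∧
    ∀ j : ℕ, (η : C → ℂ) (u ^ j) / (η : C → ℂ) 1 = ((η : C → ℂ) u / (η : C → ℂ) 1) ^ j := by
  set ε := (η : C → ℂ) u / (η : C → ℂ) 1 with hε
  have h : ∀ j : ℕ, (η : C → ℂ) (u ^ j) = ε ^ j * (η : C → ℂ) 1 := by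
    intro j
    induction j with
    | zero => simp
    | succ j ih => rw [pow_succ', Weight.value_mul_central η hu, ih, hε, pow_succ]; ring
  have h1 : ε ^ q = 1 := by
    have := h q
    rw [hq] at this
    exact (mul_eq_right₀ (irr_one_ne_zero η.2)).1 this.symm
  refine ⟨?_, h1, fun j => by rw [h j, mul_div_assoc, div_self (irr_one_ne_zero η.2), mul_one]⟩
  rw [classInner_def, classInner_def, mul_assoc, Finset.sum_mul]
  congr 1
  refine Fintype.sum_equiv (Equiv.mulLeft u) _ _ fun c => ?_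
  simp only [Equiv.coe_mulLeft, Subgroup.coe_mul, Weight.value_mul_central η hu]
  rw [map_mul, ← hε, Subsection.conj_eq_inv_of_pow hq0 h1]
  have h0 : ε ≠ 0 := fun h => by rw [h, zero_pow hq0] at h1; exact zero_ne_one h1
  field_simp

/-- The self-contribution at the powers of a central element is one polynomial at the powers of a
root of unity. -/
theorem exists_poly (hM : Cfsg.IsPModular p M) {C : Subgroup G} {β : Set (Cfsg.IrrCharacter C)}
    (hβ : Cfsg.IsPBlock M β) {u : C} (hu : ∀ c : C, Commute u c) {q : ℕ} (hq0 : q ≠ 0)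
    (hq : u ^ q = 1) {ζ : ℂ} (hζ : IsPrimitiveRoot ζ q) (χ : Cfsg.IrrCharacter G) :
    ∃ P : ℚ[X], (∀ μ : ℂ, μ ^ q = 1 → IsIntegral ℤ (aeval μ P)) ∧
      ∀ j : ℕ, aeval (ζ ^ j) P = selfW p C β ((u : G) ^ j) (χ : G → ℂ) := by
  classical
  haveI := Fintype.ofFinite C
  haveI := Fintype.ofFinite (Cfsg.IrrCharacter C)
  haveI : NeZero q := ⟨hq0⟩
  have hex : ∀ η : Cfsg.IrrCharacter C, ∃ i : ℕ, ζ ^ i = (η : C → ℂ) u / (η : C → ℂ) 1 := fun η => by
    obtain ⟨i, -, hi⟩ := hζ.eq_pow_of_pow_eq_one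
      (classInner_mul_left_central hq0 hq hu (fun _ => (0 : ℂ)) η).2.1
    exact ⟨i, hi⟩
  choose e he using hex
  have hn' : ∀ η : Cfsg.IrrCharacter C, ∃ n : ℕ,
      Cfsg.classInner (fun c : C => (χ : G → ℂ) c) (η : C → ℂ) = (n : ℂ) :=
    fun η => classInner_char_nat (isCharacter_restrict _ (irr_isCharacter χ)) (irr_isCharacter η)
  choose n hn using hn'
  obtain ⟨z, hz, -⟩ := Contrib.exists_matrix hM hβ
  set bs := Finset.univ.filter (· ∈ β) with hbs
  refine ⟨∑ η ∈ bs, ∑ η' ∈ bs, Polynomial.C (((n η * n η' : ℕ) : ℚ) * (z η η' : ℚ)) *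
    X ^ (e η + (q - 1) * e η'), fun μ hμ => ?_, fun j => ?_⟩
  · simp only [map_sum, map_mul, map_pow, aeval_X, map_natCast, map_intCast]
    refine IsIntegral.sum _ fun η _ => IsIntegral.sum _ fun η' _ => ?_
    exact ((isIntegral_natCast _).mul
      (by simpa using isIntegral_algebraMap (R := ℤ) (A := ℂ) (x := z η η'))).mul
      ((isIntegral_of_pow_eq_one hq0 hμ).pow _)
  · have hcj : ∀ c : C, Commute (u ^ j) c := fun c => (hu c).pow_left j
    have hqj : (u ^ j) ^ q = 1 := by rw [← pow_mul, mul_comm, pow_mul, hq, one_pow]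
    have hζj : (ζ ^ j) ^ q = 1 := by rw [← pow_mul, mul_comm, pow_mul, hζ.pow_eq_one, one_pow]
    have hpart : secPart C β ((u : G) ^ j) (χ : G → ℂ) =
        fun c => ∑ η ∈ bs, ((n η : ℂ) * (ζ ^ j) ^ e η) * (η : C → ℂ) c := by
      rw [secPart, blockPart_sum]
      funext c
      refine Finset.sum_congr (by ext; simp [bs]) fun η _ => ?_
      obtain ⟨h1, -, -⟩ := classInner_mul_left_central hq0 hqj hcj (χ : G → ℂ) η
      rw [Subgroup.coe_pow] at h1
      rw [h1, hn, (classInner_mul_left_central hq0 hq hu (χ : G → ℂ) η).2.2 j, ← he η, ← pow_mul,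
        ← pow_mul, mul_comm (e η)]
    rw [selfW, hpart, regSum_sum_left, Finset.mul_sum]
    simp only [map_sum, map_mul, map_pow, aeval_X, map_natCast, map_intCast]
    refine Finset.sum_congr rfl fun η hη => ?_
    rw [regSum_sum_right, Finset.mul_sum, Finset.mul_sum]
    refine Finset.sum_congr rfl fun η' hη' => ?_
    rw [← hz η (Finset.mem_filter.1 hη).2 η' (Finset.mem_filter.1 hη').2, Contrib.contrib,
      map_mul, Complex.conj_natCast, map_pow, Subsection.conj_eq_inv_of_pow hq0 hζj, inv_pow,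
      show ((ζ ^ j) ^ e η')⁻¹ = (ζ ^ j) ^ ((q - 1) * e η') from
        inv_eq_of_mul_eq_one_left (by
          rw [← pow_add, ← Nat.add_one_mul, Nat.sub_add_cancel (Nat.pos_of_ne_zero hq0), pow_mul,
            hζj, one_pow]), pow_add]
    push_cast
    ring

section Section

variable {B : Set (Cfsg.IrrCharacter G)} {y : G}
  {β : Set (Cfsg.IrrCharacter (Subgroup.centralizer ({y} : Set G)))}

theorem secPart_isClassFunction (φ : G → ℂ) :
    Cfsg.IsClassFunction (Subgroup.centralizer ({y} : Set G))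
      (secPart (Subgroup.centralizer ({y} : Set G)) β y φ) := by
  classical
  haveI := Fintype.ofFinite (Subgroup.centralizer ({y} : Set G))
  haveI := Fintype.ofFinite (Cfsg.IrrCharacter (Subgroup.centralizer ({y} : Set G)))
  intro g h
  rw [secPart, blockPart_sum]
  exact Finset.sum_congr rfl fun η _ => by rw [irr_isClassFunction η g h]

theorem secPart_isIntegral (hy : ∃ k : ℕ, orderOf y = p ^ k) (hp : p.Prime)
    (χ : Cfsg.IrrCharacter G) (s : Subgroup.centralizer ({y} : Set G)) :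
    IsIntegral ℤ (secPart (Subgroup.centralizer ({y} : Set G)) β y (χ : G → ℂ) s) := by
  classical
  haveI := Fintype.ofFinite (Subgroup.centralizer ({y} : Set G))
  haveI := Fintype.ofFinite (Cfsg.IrrCharacter (Subgroup.centralizer ({y} : Set G)))
  obtain ⟨k, hk⟩ := hy
  have hyq : y ^ p ^ k = 1 := by rw [← hk, pow_orderOf_eq_one]
  rw [secPart, blockPart_sum]
  refine IsIntegral.sum _ fun η _ => ?_
  obtain ⟨n, hn⟩ := classInner_char_nat (isCharacter_restrict (Subgroup.centralizer ({y} : Set G))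
    (irr_isCharacter χ)) (irr_isCharacter η)
  have h1 : Cfsg.classInner (ZStar.Principal.shift y (χ : G → ℂ))
      (η : Subgroup.centralizer ({y} : Set G) → ℂ) = (n : ℂ) * Subsection.eps y η := by
    rw [Subsection.classInner_shift (pow_ne_zero _ hp.ne_zero) hyq, hn]
  show IsIntegral ℤ (Cfsg.classInner (ZStar.Principal.shift y (χ : G → ℂ))
    (η : Subgroup.centralizer ({y} : Set G) → ℂ) * _)
  rw [h1]
  exact ((isIntegral_natCast n).mul (isIntegral_of_pow_eq_one (pow_ne_zero _ hp.ne_zero)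
    (Subsection.eps_pow hyq η))).mul (char_value_isIntegral (irr_isCharacter η) s)

/-- The central element of a character at a subsection evaluates to the pairing of two parts. -/
theorem omega_secEl (hM : Cfsg.IsPModular p M) (hβ : Cfsg.IsPBlock M β)
    (hy : ∃ k : ℕ, orderOf y = p ^ k) (χ ψ : Cfsg.IrrCharacter G) :
    omega (χ : G → ℂ) (MajorSubsection.secEl p y
      (secPart (Subgroup.centralizer ({y} : Set G)) β y (ψ : G → ℂ))) =
      ((Subgroup.centralizer ({y} : Set G)).index : ℂ) / (χ : G → ℂ) 1 *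
        regSum p (secPart (Subgroup.centralizer ({y} : Set G)) β y (χ : G → ℂ))
          (secPart (Subgroup.centralizer ({y} : Set G)) β y (ψ : G → ℂ)) := by
  haveI := Fintype.ofFinite G
  haveI := Fintype.ofFinite (Subgroup.centralizer ({y} : Set G))
  rw [omega, MajorSubsection.evalChar_secEl hM.1 hy (secPart_isClassFunction _)
    (irr_isClassFunction χ)]
  rw [secPart, secPart, show (fun c : Subgroup.centralizer ({y} : Set G) => (χ : G → ℂ) (y * c)) =
    ZStar.Principal.shift y (χ : G → ℂ) from rfl,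
    regSum_part hM hβ (ZStar.Principal.isClassFunction_shift y (irr_isClassFunction χ))]
  ring

theorem intEl_secEl_part (hM : Cfsg.IsPModular p M) (hy : ∃ k : ℕ, orderOf y = p ^ k)
    (ψ : Cfsg.IrrCharacter G) : IntEl M (MajorSubsection.secEl p y
      (secPart (Subgroup.centralizer ({y} : Set G)) β y (ψ : G → ℂ))) :=
  MajorSubsection.intEl_secEl hM (secPart_isIntegral hy hM.1 ψ)

/-- The self-contribution is the degree times the central character of the section. -/
theorem selfW_eq (hM : Cfsg.IsPModular p M) (hβ : Cfsg.IsPBlock M β)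
    (hy : ∃ k : ℕ, orderOf y = p ^ k) (χ : Cfsg.IrrCharacter G) :
    selfW p (Subgroup.centralizer ({y} : Set G)) β y (χ : G → ℂ) =
      ((p ^ Cfsg.blockDefect p β * Cfsg.charDegree (χ : G → ℂ) : ℕ) : ℂ) / (Nat.card G : ℂ) *
        omega (χ : G → ℂ) (MajorSubsection.secEl p y
          (secPart (Subgroup.centralizer ({y} : Set G)) β y (χ : G → ℂ))) := by
  rw [omega_secEl hM hβ hy, selfW, ← Subgroup.card_mul_index (Subgroup.centralizer ({y} : Set G)),
    ← charDegree_cast χ]
  have h1 : ((Subgroup.centralizer ({y} : Set G)).index : ℂ) ≠ 0 :=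
    Nat.cast_ne_zero.2 (Subgroup.centralizer ({y} : Set G)).index_ne_zero_of_finite
  have h2 : ((Cfsg.charDegree (χ : G → ℂ)) : ℂ) ≠ 0 := Nat.cast_ne_zero.2 (charDegree_pos χ).ne'
  have h3 : (Nat.card (Subgroup.centralizer ({y} : Set G)) : ℂ) ≠ 0 :=
    Nat.cast_ne_zero.2 Nat.card_pos.ne'
  push_cast
  field_simp

/-- The self-contribution is divisible by `p` to the height. -/
theorem selfW_div_ring (hM : Cfsg.IsPModular p M) (hy : ∃ k : ℕ, orderOf y = p ^ k)
    (hind : Cfsg.IsInducedBlock M (Subgroup.centralizer ({y} : Set G)) β B)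
    (hdef : Cfsg.blockDefect p β = Cfsg.blockDefect p B) {χ : Cfsg.IrrCharacter G} (hχ : χ ∈ B) :
    Cfsg.MemLocalRing M (selfW p (Subgroup.centralizer ({y} : Set G)) β y (χ : G → ℂ) /
      (p : ℂ) ^ Cfsg.blockHeight p B (χ : G → ℂ)) := by
  rw [selfW_eq hM hind.1 hy, hdef, div_mul_eq_mul_div, div_div, ← div_mul_eq_mul_div,
    ← Nat.cast_pow, ← Nat.cast_mul]
  refine ring_mul hM (ring_natCast_div hM (mul_ne_zero Nat.card_pos.ne'
    (pow_ne_zero _ hM.1.ne_zero)) ?_) (omega_ring hM χ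
      (MajorSubsection.central_secEl hM.1 hy (secPart_isClassFunction _))
      (intEl_secEl_part hM hy χ))
  have h1 := degree_factorization_eq hM hind.2.1 hχ
  have h2 := blockDefect_le p B
  rw [Nat.factorization_mul Nat.card_pos.ne' (pow_ne_zero _ hM.1.ne_zero),
    Nat.factorization_mul (pow_ne_zero _ hM.1.ne_zero) (charDegree_pos χ).ne']
  simp only [Finsupp.add_apply, hM.1.factorization_pow, Finsupp.single_eq_same]
  omega

/-- At height zero the self-contribution is a unit. -/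
theorem selfW_unit (hM : Cfsg.IsPModular p M) (hy : ∃ k : ℕ, orderOf y = p ^ k)
    (hind : Cfsg.IsInducedBlock M (Subgroup.centralizer ({y} : Set G)) β B)
    {ψ : Cfsg.IrrCharacter G} (hψ : ψ ∈ B) (h0 : Cfsg.blockHeight p B (ψ : G → ℂ) = 0) :
    ¬ Cfsg.MemLocalIdeal M
      (selfW p (Subgroup.centralizer ({y} : Set G)) β y (ψ : G → ℂ)) := by
  classical
  haveI := Fintype.ofFinite G
  haveI := Fintype.ofFinite (Subgroup.centralizer ({y} : Set G))
  haveI := Fintype.ofFinite (Cfsg.IrrCharacter (Subgroup.centralizer ({y} : Set G)))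
  have hb := hind.1
  obtain ⟨k, hk⟩ := id hy
  have hyq : y ^ p ^ k = 1 := by rw [← hk, pow_orderOf_eq_one]
  have hq0 : p ^ k ≠ 0 := pow_ne_zero _ hM.1.ne_zero
  have hn' : ∀ η : Cfsg.IrrCharacter (Subgroup.centralizer ({y} : Set G)), ∃ n : ℕ,
      Cfsg.classInner (fun c : (Subgroup.centralizer ({y} : Set G)) => (ψ : G → ℂ) c) (η : (Subgroup.centralizer ({y} : Set G)) → ℂ) = (n : ℂ) :=
    fun η => classInner_char_nat (isCharacter_restrict _ (irr_isCharacter ψ)) (irr_isCharacter η)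
  choose n hn using hn'
  obtain ⟨z, hz, hzs, -⟩ := Contrib.exists_matrix hM hb
  obtain ⟨η₀, hη₀, hη₀h⟩ := exists_height_zero hM hb
  set bs := Finset.univ.filter (· ∈ β) with hbs
  set a := (Nat.card (Subgroup.centralizer ({y} : Set G))).factorization p with ha
  set d := Cfsg.blockDefect p β with hd
  set δ : Cfsg.IrrCharacter (Subgroup.centralizer ({y} : Set G)) → ℂ := fun η =>
    ((Cfsg.charDegree (η : (Subgroup.centralizer ({y} : Set G)) → ℂ) : ℕ) : ℂ) / ((p ^ (a - d) : ℕ) : ℂ) with hδ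
  have hδr : ∀ η ∈ β, Cfsg.MemLocalRing M (δ η) := fun η hη =>
    ring_natCast_div hM (pow_ne_zero _ hM.1.ne_zero) (by
      rw [hM.1.factorization_pow, Finsupp.single_eq_same]
      have := degree_factorization_eq hM hb hη
      omega)
  have hδ0 : ¬ Cfsg.MemLocalIdeal M (δ η₀) :=
    not_ideal_natCast_div hM (charDegree_pos η₀).ne' (pow_ne_zero _ hM.1.ne_zero) (by
      rw [hM.1.factorization_pow, Finsupp.single_eq_same]
      have := degree_factorization_eq hM hb hη₀
      omega)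
  have hzr : ∀ η ∈ β, ∀ η' ∈ β,
      (z η η' : ℂ) = δ η' * ratio p (η : (Subgroup.centralizer ({y} : Set G)) → ℂ) (η' : (Subgroup.centralizer ({y} : Set G)) → ℂ) := by
    intro η hη η' hη'
    obtain ⟨w, hw, hw', -⟩ := exists_coeff hM η η'
    rw [Contrib.classInner_hat_regSum, hw'] at hw
    rw [← hz η hη η' hη', Contrib.contrib, hδ]
    show _ = ((Cfsg.charDegree (η' : (Subgroup.centralizer ({y} : Set G)) → ℂ) : ℕ) : ℂ) / ((p ^ (a - d) : ℕ) : ℂ) * _
    have hpa : ((p ^ a : ℕ) : ℂ) = ((p ^ d : ℕ) : ℂ) * ((p ^ (a - d) : ℕ) : ℂ) := by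
      rw [← Nat.cast_mul, ← pow_add, Nat.add_sub_cancel' (blockDefect_le p β)]
    rw [← ha, hpa] at hw
    rw [div_mul_eq_mul_div _ ((p ^ (a - d) : ℕ) : ℂ), ← hw,
      eq_div_iff (natCast_p_pow_ne_zero hM _)]
    ring
  set R : ℂ := ∑ η ∈ bs, (n η : ℂ) * ratio p (η : (Subgroup.centralizer ({y} : Set G)) → ℂ) (η₀ : (Subgroup.centralizer ({y} : Set G)) → ℂ) with hR
  set D : ℂ := ∑ η ∈ bs, (n η : ℂ) * δ η with hD
  have hRu : ¬ Cfsg.MemLocalIdeal M R :=
    Subsection.sum_mult_ratio_unit hM hind hψ h0 hη₀ n hn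
  have hDr : Cfsg.MemLocalRing M D := ring_sum hM fun η hη =>
    ring_mul hM (ring_natCast hM _) (hδr η (Finset.mem_filter.1 hη).2)
  have hRr : Cfsg.MemLocalRing M R := ring_sum hM fun η _ =>
    ring_mul hM (ring_natCast hM _) (ratio_ring hM η η₀)
  have hDu : ¬ Cfsg.MemLocalIdeal M D := by
    intro h
    have hcong : Cong M (δ η₀ * R) (ratio p (η₀ : (Subgroup.centralizer ({y} : Set G)) → ℂ) (η₀ : (Subgroup.centralizer ({y} : Set G)) → ℂ) * D) := by
      simp only [R, D, Finset.mul_sum]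
      refine cong_sum hM fun η hη => ?_
      have hη' := (Finset.mem_filter.1 hη).2
      have e1 : δ η₀ * ((n η : ℂ) * ratio p (η : (Subgroup.centralizer ({y} : Set G)) → ℂ) (η₀ : (Subgroup.centralizer ({y} : Set G)) → ℂ)) =
          (n η : ℂ) * (z η₀ η : ℂ) := by
        rw [hzs η hη' η₀ hη₀, hzr η hη' η₀ hη₀]; ring
      rw [e1, hzr η₀ hη₀ η hη', show ratio p (η₀ : (Subgroup.centralizer ({y} : Set G)) → ℂ) (η₀ : (Subgroup.centralizer ({y} : Set G)) → ℂ) * ((n η : ℂ) * δ η) =
          (n η : ℂ) * δ η * ratio p (η₀ : (Subgroup.centralizer ({y} : Set G)) → ℂ) (η₀ : (Subgroup.centralizer ({y} : Set G)) → ℂ) from by ring, ← mul_assoc]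
      exact cong_mul_left hM (ring_mul hM (ring_natCast hM _) (hδr η hη'))
        (ratio_cong hM hb η₀ hη' hη₀)
    have h2 := (ideal_iff_of_cong hM hcong).2 (ideal_mul_left hM (ratio_ring hM η₀ η₀) h)
    rw [ideal_mul_iff hM (hδr η₀ hη₀) hRr] at h2
    exact h2.elim hδ0 hRu
  set e : Cfsg.IrrCharacter (Subgroup.centralizer ({y} : Set G)) → ℂ := fun η => Subsection.eps y η with hedef
  have he : ∀ η, Cong M (e η) 1 := fun η =>
    cong_one_of_pow_prime_pow hM (k := k) (Subsection.eps_pow hyq η)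
  have hpart : secPart (Subgroup.centralizer ({y} : Set G)) β y (ψ : G → ℂ) = fun c => ∑ η ∈ bs, ((n η : ℂ) * e η) * (η : (Subgroup.centralizer ({y} : Set G)) → ℂ) c := by
    rw [secPart, blockPart_sum]
    funext c
    refine Finset.sum_congr (by ext; simp [bs]) fun η _ => ?_
    show Cfsg.classInner (ZStar.Principal.shift y (ψ : G → ℂ)) (η : (Subgroup.centralizer ({y} : Set G)) → ℂ) * _ = _
    rw [Subsection.classInner_shift hq0 hyq, hn]
  have hW : selfW p (Subgroup.centralizer ({y} : Set G)) β y (ψ : G → ℂ) =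
      ∑ η ∈ bs, ∑ η' ∈ bs, (n η : ℂ) * (n η' : ℂ) * (z η η' : ℂ) * (e η * conj (e η')) := by
    rw [selfW, hpart, regSum_sum_left, Finset.mul_sum]
    refine Finset.sum_congr rfl fun η hη => ?_
    rw [regSum_sum_right, Finset.mul_sum, Finset.mul_sum]
    refine Finset.sum_congr rfl fun η' hη' => ?_
    rw [← hz η (Finset.mem_filter.1 hη).2 η' (Finset.mem_filter.1 hη').2, Contrib.contrib,
      map_mul, Complex.conj_natCast]
    ring
  have hcong : Cong M (selfW p (Subgroup.centralizer ({y} : Set G)) β y (ψ : G → ℂ)) (D * R) := by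
    rw [hW]
    simp only [R, D, Finset.mul_sum]
    rw [show ∀ g : Cfsg.IrrCharacter (Subgroup.centralizer ({y} : Set G)) → ℂ, ∑ η ∈ bs, (∑ η' ∈ bs, (n η' : ℂ) * δ η') * g η =
        ∑ η ∈ bs, ∑ η' ∈ bs, (n η' : ℂ) * δ η' * g η from fun g =>
          Finset.sum_congr rfl fun η _ => Finset.sum_mul _ _ _]
    refine cong_sum hM fun η hη => cong_sum hM fun η' hη' => ?_
    have hη1 := (Finset.mem_filter.1 hη).2
    have hη1' := (Finset.mem_filter.1 hη').2
    have hep : Cong M (e η * conj (e η')) 1 := by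
      refine cong_one_of_pow_prime_pow hM (k := k) ?_
      rw [mul_pow, ← map_pow, Subsection.eps_pow hyq, Subsection.eps_pow hyq, map_one, one_mul]
    refine cong_trans hM (cong_mul_left hM (ring_mul hM (ring_mul hM (ring_natCast hM _)
      (ring_natCast hM _)) (ring_intCast hM _)) hep) ?_
    rw [mul_one, hzr η hη1 η' hη1', show (n η' : ℂ) * δ η' *
        ((n η : ℂ) * ratio p (η : (Subgroup.centralizer ({y} : Set G)) → ℂ) (η₀ : (Subgroup.centralizer ({y} : Set G)) → ℂ)) =
        (n η : ℂ) * (n η' : ℂ) * δ η' * ratio p (η : (Subgroup.centralizer ({y} : Set G)) → ℂ) (η₀ : (Subgroup.centralizer ({y} : Set G)) → ℂ) from by ring, ← mul_assoc]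
    exact cong_mul_left hM (ring_mul hM (ring_mul hM (ring_natCast hM _) (ring_natCast hM _))
      (hδr η' hη1')) (ratio_cong hM hb η hη1' hη₀)
  rw [ideal_iff_of_cong hM hcong, ideal_mul_iff hM hDr hRr]
  rintro (h | h)
  exacts [hDu h, hRu h]

/-- Every member of the block has a positive self-contribution. -/
theorem selfW_ne_zero (hM : Cfsg.IsPModular p M) (hy : ∃ k : ℕ, orderOf y = p ^ k)
    (hind : Cfsg.IsInducedBlock M (Subgroup.centralizer ({y} : Set G)) β B)
    (hdef : Cfsg.blockDefect p β = Cfsg.blockDefect p B) {χ : Cfsg.IrrCharacter G} (hχ : χ ∈ B) :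
    selfW p (Subgroup.centralizer ({y} : Set G)) β y (χ : G → ℂ) ≠ 0 := by
  intro h0
  obtain ⟨ψ, hψ, hψ0⟩ := exists_height_zero hM hind.2.1
  refine selfW_unit hM hy hind hψ hψ0 ?_
  have hreg : regSum p (secPart (Subgroup.centralizer ({y} : Set G)) β y (χ : G → ℂ)) (secPart (Subgroup.centralizer ({y} : Set G)) β y (χ : G → ℂ)) = 0 := by
    rw [selfW, mul_eq_zero, div_eq_zero_iff] at h0
    exact h0.resolve_left (not_or.2 ⟨natCast_p_pow_ne_zero hM _,
      Nat.cast_ne_zero.2 Nat.card_pos.ne'⟩)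
  obtain ⟨r, -, he, hr⟩ := regSum_self_eq (p := p) (secPart (Subgroup.centralizer ({y} : Set G)) β y (χ : G → ℂ))
  have hf : ∀ x, ¬ p ∣ orderOf x → secPart (Subgroup.centralizer ({y} : Set G)) β y (χ : G → ℂ) x = 0 :=
    hr (Complex.ofReal_eq_zero.1 (he.symm.trans hreg))
  set Z := MajorSubsection.secEl p y (secPart (Subgroup.centralizer ({y} : Set G)) β y (ψ : G → ℂ))
  have hω : omega (χ : G → ℂ) Z = 0 := by
    rw [omega_secEl hM hind.1 hy, regSum_congr_left (f' := fun _ => 0) hf]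
    simp [regSum]
  have h1 := omega_cong_of_mem hM hind.2.1 hψ hχ
    (MajorSubsection.central_secEl hM.1 hy (secPart_isClassFunction (β := β) (ψ : G → ℂ)))
    (intEl_secEl_part hM hy ψ)
  rw [hω, cong_zero_iff] at h1
  rw [selfW_eq hM hind.1 hy, hdef]
  refine ideal_mul_left hM (ring_natCast_div hM Nat.card_pos.ne' ?_) h1
  have h2 := degree_factorization_eq hM hind.2.1 hψ
  have h3 := blockDefect_le p B
  rw [Nat.factorization_mul (pow_ne_zero _ hM.1.ne_zero) (charDegree_pos ψ).ne']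
  simp only [Finsupp.add_apply, hM.1.factorization_pow, Finsupp.single_eq_same]
  omega

end Section

end Cfsg.Agent.BlockCharsA.HeightInertial
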