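import Mathlib
import Cfsg.Agent.BlockCharsA.HeightInertial.Local
import Cfsg.Agent.BlockCharsA.HeightInertial.SelfContrib
import Cfsg.Agent.BlockCharsA.HeightInertial.Mean

/-!
# Heights are bounded through the centre of the defect group and the inertial index
-/

set_option linter.style.haveILetI false
set_option linter.unusedSectionVars false

namespace Cfsg.Agent.BlockCharsA.HeightInertial

open Cfsg.Agent.Blocks Cfsg.Agent.Characters Cfsg.Agent.BlockCharsA
open Cfsg.Agent.BlockCharsA.Transport Polynomial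
open scoped ComplexConjugate

universe u

variable {G : Type u} [Group G] [Finite G] {p : ℕ} {M : Ideal Cfsg.AlgInt}

/-- All sections together carry the norm of the character. -/
theorem sum_sections_le [Fintype G] (hp : p.Prime) (χ : Cfsg.IrrCharacter G) (X : Finset G)
    (hX : ∀ x ∈ X, ∃ k : ℕ, orderOf x = p ^ k) :
    ∑ x ∈ X, (regSum p (ZStar.Principal.shift x (χ : G → ℂ))
      (ZStar.Principal.shift x (χ : G → ℂ))).re ≤ (Nat.card G : ℝ) := by
  classical
  set f : G → ℂ := fun g => (χ : G → ℂ) g * conj ((χ : G → ℂ) g) with hf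
  have h1 : ∀ x, regSum p (ZStar.Principal.shift x (χ : G → ℂ))
      (ZStar.Principal.shift x (χ : G → ℂ)) =
      regSum p (ZStar.Principal.shift x f) (fun _ => 1) := fun x => by
    haveI := Fintype.ofFinite (Subgroup.centralizer ({x} : Set G))
    rw [regSum_eq_sum, regSum_eq_sum]
    refine Finset.sum_congr rfl fun c _ => ?_
    simp [f, ZStar.Principal.shift]
  have h2 : ∑ x ∈ X, regSum p (ZStar.Principal.shift x (χ : G → ℂ))
      (ZStar.Principal.shift x (χ : G → ℂ)) =
      ∑ g ∈ Finset.univ.filter (fun g => ∃ x ∈ X, Cfsg.IsPPart p g x), f g := by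
    rw [ZStar.Sections.sum_section hp X hX f]
    exact Finset.sum_congr rfl fun x _ => by
      rw [h1, ZStar.Sections.sum_commute_eq_regSum]
  rw [← Complex.re_sum, h2, Complex.re_sum]
  have hnn : ∀ g : G, 0 ≤ (f g).re := fun g => by
    simp only [f, Complex.mul_conj', ← Complex.ofReal_pow, Complex.ofReal_re]
    positivity
  refine (Finset.sum_le_sum_of_subset_of_nonneg (Finset.subset_univ _) fun g _ _ => hnn g).trans
    (le_of_eq ?_)
  rw [← Complex.re_sum]
  have h3 := classInner_isIrr_self χ.2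
  rw [classInner_def, inv_mul_eq_one₀ natCard_ne_zero] at h3
  rw [show ∑ g, f g = (Nat.card G : ℂ) from h3.symm, Complex.natCast_re]

/-- Transport of the regular norm of a block part along an isomorphism fixing the character. -/
theorem regSum_secPart_iso {C C' : Subgroup G} (σ : C ≃* C') (y y' : G) (χ : G → ℂ)
    (hχ : ∀ c : C, χ (y' * (σ c : G)) = χ (y * (c : G))) (β : Set (Cfsg.IrrCharacter C)) :
    regSum p (secPart C' (pullSet σ β) y' χ) (secPart C' (pullSet σ β) y' χ) =
      regSum p (secPart C β y χ) (secPart C β y χ) := by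
  classical
  haveI := Fintype.ofFinite C
  haveI := Fintype.ofFinite C'
  haveI := Fintype.ofFinite (Cfsg.IrrCharacter C)
  haveI := Fintype.ofFinite (Cfsg.IrrCharacter C')
  have hpt : ∀ c : C, secPart C' (pullSet σ β) y' χ (σ c) = secPart C β y χ c := by
    intro c
    rw [secPart, secPart, blockPart_sum, blockPart_sum]
    beta_reduce
    rw [Finset.sum_filter, Finset.sum_filter]
    refine Fintype.sum_equiv (irrIso σ) _ _ fun η => ?_
    refine if_congr Iff.rfl (congrArg (· * (η : C' → ℂ) (σ c)) ?_) rfl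
    rw [classInner_def, classInner_def, Nat.card_congr σ.toEquiv]
    exact congrArg _ (Fintype.sum_equiv σ.toEquiv _ _ fun d => by
      show χ (y * (d : G)) * conj ((η : C' → ℂ) (σ d)) = _
      rw [← hχ d]
      rfl).symm
  rw [regSum_eq_sum, regSum_eq_sum]
  refine (Fintype.sum_equiv σ.toEquiv _ _ fun c => ?_).symm
  show _ = if ¬ p ∣ orderOf (σ c) then _ else _
  rw [MulEquiv.orderOf_eq, MulEquiv.toEquiv_eq_coe, MulEquiv.coe_toEquiv, hpt c]

variable {D H : Subgroup G} {b : Set (Cfsg.IrrCharacter H)} {B : Set (Cfsg.IrrCharacter G)}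

set_option maxHeartbeats 2000000 in
/-- The self-contributions over the centre of the defect group add up to at most
`p ^ d` times the inertial index. -/
theorem sum_centre_le (hM : Cfsg.IsPModular p M)
    (hH : H = D ⊔ Subgroup.centralizer (D : Set G))
    (hD : Cfsg.IsDefectGroup p M B D) (hind : Cfsg.IsInducedBlock M H b B) {T : Subgroup G}
    (hT : ∀ g : G, g ∈ T ↔ (g ∈ Subgroup.normalizer (D : Set G) ∧ ∀ θ ∈ b,
      ∀ θ' : Cfsg.IrrCharacter H, (∀ h h' : H, (h' : G) = g * h * g⁻¹ →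
        (θ' : H → ℂ) h' = (θ : H → ℂ) h) → θ' ∈ b))
    (Z : Finset G) (hZ : ∀ z ∈ Z, z ∈ D ∧ H ≤ Subgroup.centralizer ({z} : Set G))
    (β : ∀ C : Subgroup G, Set (Cfsg.IrrCharacter C))
    (hβ : ∀ z ∈ Z, IsUp M H b (Subgroup.centralizer ({z} : Set G))
      (β (Subgroup.centralizer ({z} : Set G)))) (χ : Cfsg.IrrCharacter G) :
    ∑ z ∈ Z, (selfW p (Subgroup.centralizer ({z} : Set G))
        (β (Subgroup.centralizer ({z} : Set G))) z (χ : G → ℂ)).re ≤
      (p : ℝ) ^ Cfsg.blockDefect p B * (H.relIndex T : ℝ) := by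
  classical
  haveI := Fintype.ofFinite G
  haveI := fact_prime_of_pm hM
  have hel : ∀ z ∈ Z, ∃ k : ℕ, orderOf z = p ^ k := fun z hz => by
    obtain ⟨k, hk⟩ := IsPGroup.iff_orderOf.1 (isPGroup_defect hD) ⟨z, (hZ z hz).1⟩
    exact ⟨k, by rw [← hk, ← Subgroup.orderOf_coe]⟩
  set ρ : G → ℝ := fun z => (regSum p
    (secPart (Subgroup.centralizer ({z} : Set G)) (β (Subgroup.centralizer ({z} : Set G))) z
      (χ : G → ℂ))
    (secPart (Subgroup.centralizer ({z} : Set G)) (β (Subgroup.centralizer ({z} : Set G))) z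
      (χ : G → ℂ))).re with hρ
  set N : G → ℝ := fun z => (Nat.card (Subgroup.centralizer ({z} : Set G)) : ℝ) with hN
  have hρ0 : ∀ z, 0 ≤ ρ z := fun z => by
    obtain ⟨r, hr, he, -⟩ := regSum_self_eq (p := p)
      (secPart (Subgroup.centralizer ({z} : Set G)) (β (Subgroup.centralizer ({z} : Set G))) z
        (χ : G → ℂ))
    simp only [ρ, he, Complex.ofReal_re]
    exact hr
  have hW : ∀ z ∈ Z, (selfW p (Subgroup.centralizer ({z} : Set G))
      (β (Subgroup.centralizer ({z} : Set G))) z (χ : G → ℂ)).re =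
      (p : ℝ) ^ Cfsg.blockDefect p B * (ρ z / N z) := fun z hz => by
    obtain ⟨r, -, he, hr⟩ := selfW_real (p := p) (Subgroup.centralizer ({z} : Set G))
      (β (Subgroup.centralizer ({z} : Set G))) z (χ : G → ℂ)
    rw [he, Complex.ofReal_re, hr, (up_defect hM hH hD hind (hβ z hz)).2, Nat.cast_pow]
    simp only [ρ, N]
    ring
  rw [Finset.sum_congr rfl hW, ← Finset.mul_sum]
  refine mul_le_mul_of_nonneg_left ?_ (by positivity)
  -- blocks over each element
  let S : ∀ x : G, Finset (Set (Cfsg.IrrCharacter (Subgroup.centralizer ({x} : Set G)))) := fun x =>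
    haveI := Fintype.ofFinite (Set (Cfsg.IrrCharacter (Subgroup.centralizer ({x} : Set G))))
    Finset.univ.filter fun γ => Cfsg.IsPBlock M γ
  set R : ∀ x : G, Set (Cfsg.IrrCharacter (Subgroup.centralizer ({x} : Set G))) → ℝ := fun x γ =>
    (regSum p (Cfsg.blockPart γ (ZStar.Principal.shift x (χ : G → ℂ)))
      (Cfsg.blockPart γ (ZStar.Principal.shift x (χ : G → ℂ)))).re with hR
  let rel : ∀ x : G, Set (Cfsg.IrrCharacter (Subgroup.centralizer ({x} : Set G))) → G × G → Prop :=
    fun x γ q => q.1 ∈ Z ∧ q.2 * q.1 * q.2⁻¹ = x ∧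
      ∃ σ : Subgroup.centralizer ({q.1} : Set G) ≃* Subgroup.centralizer ({x} : Set G),
        (∀ k, ((σ k : Subgroup.centralizer ({x} : Set G)) : G) = q.2 * k * q.2⁻¹) ∧
        γ = pullSet σ (β (Subgroup.centralizer ({q.1} : Set G)))
  have hex : ∀ q : G × G, q.1 ∈ Z → ∃ γ ∈ S (q.2 * q.1 * q.2⁻¹), rel _ γ q ∧
      R (q.2 * q.1 * q.2⁻¹) γ = ρ q.1 := by
    intro q hq
    have hmem : ∀ k, k ∈ Subgroup.centralizer ({q.1} : Set G) ↔
        q.2 * k * q.2⁻¹ ∈ Subgroup.centralizer ({q.2 * q.1 * q.2⁻¹} : Set G) := fun k => by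
      rw [Subgroup.mem_centralizer_singleton_iff, Subgroup.mem_centralizer_singleton_iff]
      rw [show q.2 * k * q.2⁻¹ * (q.2 * q.1 * q.2⁻¹) = q.2 * (k * q.1) * q.2⁻¹ by group,
        show q.2 * q.1 * q.2⁻¹ * (q.2 * k * q.2⁻¹) = q.2 * (q.1 * k) * q.2⁻¹ by group,
        mul_left_inj, mul_right_inj]
    let σ : Subgroup.centralizer ({q.1} : Set G) ≃*
        Subgroup.centralizer ({q.2 * q.1 * q.2⁻¹} : Set G) :=
      { toFun := fun k => ⟨q.2 * k * q.2⁻¹, (hmem k).1 k.2⟩
        invFun := fun k => ⟨q.2⁻¹ * k * q.2, (hmem _).2 (by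
          simpa [mul_assoc] using k.2)⟩
        left_inv := fun k => Subtype.ext (by simp [mul_assoc])
        right_inv := fun k => Subtype.ext (by simp [mul_assoc])
        map_mul' := fun a c => Subtype.ext (by simp [mul_assoc]) }
    have hb' : Cfsg.IsPBlock M (pullSet σ (β (Subgroup.centralizer ({q.1} : Set G)))) :=
      isPBlock_pullSet hM σ (hβ _ hq).2.2.1
    refine ⟨_, ?_, ⟨hq, rfl, σ, fun k => rfl, rfl⟩, ?_⟩
    · simp [S, hb']
    · simp only [R, ρ]
      refine congrArg Complex.re ?_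
      exact regSum_secPart_iso σ q.1 (q.2 * q.1 * q.2⁻¹) (χ : G → ℂ) (fun c => by
        show (χ : G → ℂ) (q.2 * q.1 * q.2⁻¹ * (q.2 * c * q.2⁻¹)) = _
        rw [show q.2 * q.1 * q.2⁻¹ * (q.2 * c * q.2⁻¹) = q.2 * (q.1 * c) * q.2⁻¹ by group,
          irr_isClassFunction χ]) (β (Subgroup.centralizer ({q.1} : Set G)))
  -- at most `e` times the centraliser many pairs over one block
  have hcard : ∀ x γ, ((((Z ×ˢ (Finset.univ : Finset G)).filter (rel x γ))).card : ℝ) ≤
      (H.relIndex T : ℝ) * N x := by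
    intro x γ
    set F := (Z ×ˢ (Finset.univ : Finset G)).filter (rel x γ) with hF
    rcases F.eq_empty_or_nonempty with h0 | ⟨q₀, hq₀⟩
    · rw [h0, Finset.card_empty, Nat.cast_zero]
      exact mul_nonneg (Nat.cast_nonneg _) (Nat.cast_nonneg _)
    obtain ⟨hz₀, hx₀, σ₀, hσ₀, hγ₀⟩ := (Finset.mem_filter.1 hq₀).2
    simp only [N]
    rw [← Nat.cast_mul, Nat.cast_le]
    haveI := Fintype.ofFinite (T ⧸ H.subgroupOf T)
    have horb : ∀ q ∈ F, ∃ t : T, (t : G) * q₀.1 * (t : G)⁻¹ = q.1 := by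
      intro q hq
      obtain ⟨hz, hqx, σ, hσ, hγ⟩ := (Finset.mem_filter.1 hq).2
      have hg : ∀ k, k ∈ Subgroup.centralizer ({q₀.1} : Set G) ↔
          (q.2⁻¹ * q₀.2) * k * (q.2⁻¹ * q₀.2)⁻¹ ∈ Subgroup.centralizer ({q.1} : Set G) := fun k => by
        have hq1 : q.1 = (q.2⁻¹ * q₀.2) * q₀.1 * (q.2⁻¹ * q₀.2)⁻¹ := by
          rw [show q.2⁻¹ * q₀.2 * q₀.1 * (q.2⁻¹ * q₀.2)⁻¹ = q.2⁻¹ * (q₀.2 * q₀.1 * q₀.2⁻¹) * q.2 by
            group, hx₀, ← hqx]
          group
        generalize q.2⁻¹ * q₀.2 = w at hq1 ⊢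
        rw [hq1]
        rw [Subgroup.mem_centralizer_singleton_iff, Subgroup.mem_centralizer_singleton_iff,
          show w * k * w⁻¹ * (w * q₀.1 * w⁻¹) = w * (k * q₀.1) * w⁻¹ by group,
          show w * q₀.1 * w⁻¹ * (w * k * w⁻¹) = w * (q₀.1 * k) * w⁻¹ by group,
          mul_left_inj, mul_right_inj]
      obtain ⟨c, hc, hcT⟩ := exists_mem_inertia hM hH hD hind hT (hβ _ hz₀) (hβ _ hz) hg
        fun k hk => by
          rw [← blockCoeff_pullSet σ₀ _ ⟨k, hk⟩, ← blockCoeff_pullSet σ _ _, ← hγ, ← hγ₀]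
          refine congrArg (Cfsg.blockCoeff γ) (Subtype.ext ?_)
          rw [hσ, hσ₀]
          simp [mul_assoc]
      refine ⟨⟨_, hcT⟩, ?_⟩
      show c * (q.2⁻¹ * q₀.2) * q₀.1 * (c * (q.2⁻¹ * q₀.2))⁻¹ = q.1
      rw [show c * (q.2⁻¹ * q₀.2) * q₀.1 * (c * (q.2⁻¹ * q₀.2))⁻¹ =
        c * (q.2⁻¹ * (q₀.2 * q₀.1 * q₀.2⁻¹) * q.2) * c⁻¹ by group, hx₀, ← hqx,
        show q.2⁻¹ * (q.2 * q.1 * q.2⁻¹) * q.2 = q.1 by group,
        Subgroup.mem_centralizer_singleton_iff.1 hc]
      group
    have himg : (F.image Prod.fst).card ≤ H.relIndex T := by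
      have hw : ∀ a c : T, (a⁻¹ * c : T) ∈ H.subgroupOf T →
          (c : G) * q₀.1 * (c : G)⁻¹ = (a : G) * q₀.1 * (a : G)⁻¹ := fun a c h => by
        have := Subgroup.mem_centralizer_singleton_iff.1 ((hZ _ hz₀).2 (Subgroup.mem_subgroupOf.1 h))
        simp only [Subgroup.coe_mul, Subgroup.coe_inv] at this
        calc (c : G) * q₀.1 * (c : G)⁻¹
            = (a : G) * (((a : G)⁻¹ * c) * q₀.1) * (c : G)⁻¹ := by group
          _ = (a : G) * q₀.1 * (a : G)⁻¹ := by rw [this]; group
      calc (F.image Prod.fst).card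
          ≤ ((Finset.univ : Finset (T ⧸ H.subgroupOf T)).image
              fun o => (o.out : G) * q₀.1 * (o.out : G)⁻¹).card := by
            refine Finset.card_le_card fun z hz => ?_
            obtain ⟨q, hq, rfl⟩ := Finset.mem_image.1 hz
            obtain ⟨t, ht⟩ := horb q hq
            refine Finset.mem_image.2 ⟨QuotientGroup.mk t, Finset.mem_univ _, ?_⟩
            rw [← ht]
            exact hw _ _ (by
              have := QuotientGroup.eq.1 (Quotient.out_eq (QuotientGroup.mk t : T ⧸ H.subgroupOf T)).symm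
              exact this)
        _ ≤ Fintype.card (T ⧸ H.subgroupOf T) := Finset.card_image_le
        _ = H.relIndex T := by
            rw [← Nat.card_eq_fintype_card, ← Subgroup.index_eq_card]
            rfl
    have hfib : ∀ z ∈ F.image Prod.fst, (F.filter fun q => q.1 = z).card ≤
        Nat.card (Subgroup.centralizer ({x} : Set G)) := by
      intro z hz
      obtain ⟨q₁, hq₁, rfl⟩ := Finset.mem_image.1 hz
      rw [Nat.card_eq_fintype_card, ← Finset.card_univ]
      refine Finset.card_le_card_of_injOn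
        (fun q => (if h : q.2 * q₁.2⁻¹ ∈ Subgroup.centralizer ({x} : Set G) then ⟨_, h⟩ else 1))
        (fun _ _ => Finset.mem_univ _) ?_
      intro a ha c hc hac
      have hin : ∀ q ∈ F.filter (fun q => q.1 = q₁.1),
          q.2 * q₁.2⁻¹ ∈ Subgroup.centralizer ({x} : Set G) := fun q hq => by
        obtain ⟨hqF, hq1⟩ := Finset.mem_filter.1 hq
        have e1 := ((Finset.mem_filter.1 hq₁).2).2.1
        have e2 := ((Finset.mem_filter.1 hqF).2).2.1
        rw [hq1] at e2
        refine Subgroup.mem_centralizer_singleton_iff.2 ?_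
        calc q.2 * q₁.2⁻¹ * x = q.2 * q₁.2⁻¹ * (q₁.2 * q₁.1 * q₁.2⁻¹) := by rw [e1]
          _ = (q.2 * q₁.1 * q.2⁻¹) * (q.2 * q₁.2⁻¹) := by group
          _ = x * (q.2 * q₁.2⁻¹) := by rw [e2]
      simp only [dif_pos (hin a ha), dif_pos (hin c hc), Subtype.mk.injEq, mul_left_inj] at hac
      exact Prod.ext ((Finset.mem_filter.1 ha).2.trans (Finset.mem_filter.1 hc).2.symm) hac
    calc F.card ≤ Nat.card (Subgroup.centralizer ({x} : Set G)) * (F.image Prod.fst).card :=
          Finset.card_le_mul_card_image F _ hfib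
      _ ≤ _ := by rw [mul_comm]; exact Nat.mul_le_mul_right _ himg
  -- the count
  have hR0 : ∀ x γ, 0 ≤ R x γ := fun x γ => by
    obtain ⟨r, hr, he, -⟩ := regSum_self_eq (p := p)
      (Cfsg.blockPart γ (ZStar.Principal.shift x (χ : G → ℂ)))
    simp only [R, he, Complex.ofReal_re]
    exact hr
  have hNpos : ∀ x, 0 < N x := fun x => Nat.cast_pos.2 Nat.card_pos
  have hNconj : ∀ z g : G, N (g * z * g⁻¹) = N z := fun z g => by
    have h1 := Subgroup.card_map_of_injective (f := (MulAut.conj g).toMonoidHom)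
      (MulAut.conj g).injective (K := Subgroup.centralizer ({z} : Set G))
    simp only [N]
    rw [← h1]
    refine congrArg (fun K : Subgroup G => (Nat.card K : ℝ)) ?_
    ext k
    rw [Subgroup.mem_map_equiv, Subgroup.mem_centralizer_singleton_iff,
      Subgroup.mem_centralizer_singleton_iff, MulAut.conj_symm_apply]
    constructor
    · intro h
      have := congrArg (fun w => g⁻¹ * w * g) h
      simpa [mul_assoc] using this
    · intro h
      have := congrArg (fun w => g * w * g⁻¹) h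
      simpa [mul_assoc] using this
  set X := Finset.univ.filter fun x : G => ∃ k : ℕ, orderOf x = p ^ k with hX
  have hmain : (Nat.card G : ℝ) * ∑ z ∈ Z, ρ z / N z ≤ (Nat.card G : ℝ) * H.relIndex T := by
    calc (Nat.card G : ℝ) * ∑ z ∈ Z, ρ z / N z
        = ∑ q ∈ Z ×ˢ (Finset.univ : Finset G), ρ q.1 / N q.1 := by
          rw [Finset.sum_product, Finset.mul_sum]
          simp [Finset.sum_const, Nat.card_eq_fintype_card]
      _ = ∑ x ∈ X, ∑ q ∈ (Z ×ˢ (Finset.univ : Finset G)).filter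
            (fun q => q.2 * q.1 * q.2⁻¹ = x), ρ q.1 / N q.1 := by
          refine (Finset.sum_fiberwise_of_maps_to (fun q hq => Finset.mem_filter.2
            ⟨Finset.mem_univ _, ?_⟩) _).symm
          obtain ⟨k, hk⟩ := hel _ (Finset.mem_product.1 hq).1
          exact ⟨k, by rw [RegularPart.orderOf_conj', hk]⟩
      _ ≤ ∑ x ∈ X, ∑ q ∈ (Z ×ˢ (Finset.univ : Finset G)).filter
            (fun q => q.2 * q.1 * q.2⁻¹ = x),
            ∑ γ ∈ S x, if rel x γ q then R x γ / N x else 0 := by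
          refine Finset.sum_le_sum fun x _ => Finset.sum_le_sum fun q hq => ?_
          obtain ⟨hq', hqx⟩ := Finset.mem_filter.1 hq
          obtain ⟨γ, hγ, hr, he⟩ := hex q (Finset.mem_product.1 hq').1
          subst hqx
          refine le_trans ?_ (Finset.single_le_sum (fun γ _ => ?_) hγ)
          · rw [if_pos hr, he, hNconj]
          · split
            · exact div_nonneg (hR0 _ _) (hNpos _).le
            · exact le_rfl
      _ = ∑ x ∈ X, ∑ γ ∈ S x, ((((Z ×ˢ (Finset.univ : Finset G)).filter (rel x γ))).card : ℝ) *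
            (R x γ / N x) := by
          refine Finset.sum_congr rfl fun x _ => ?_
          rw [Finset.sum_comm]
          refine Finset.sum_congr rfl fun γ _ => ?_
          rw [← Finset.sum_filter, Finset.sum_const, nsmul_eq_mul, Finset.filter_filter]
          congr 3
          exact Finset.filter_congr fun q _ => ⟨fun h => h.2, fun h => ⟨h.2.1, h⟩⟩
      _ ≤ ∑ x ∈ X, ∑ γ ∈ S x, (H.relIndex T : ℝ) * R x γ := by
          refine Finset.sum_le_sum fun x _ => Finset.sum_le_sum fun γ _ => ?_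
          refine (mul_le_mul_of_nonneg_right (hcard x γ)
            (div_nonneg (hR0 _ _) (hNpos _).le)).trans (le_of_eq ?_)
          have := (hNpos x).ne'
          field_simp
      _ ≤ ∑ x ∈ X, (H.relIndex T : ℝ) *
            (regSum p (ZStar.Principal.shift x (χ : G → ℂ))
              (ZStar.Principal.shift x (χ : G → ℂ))).re := by
          refine Finset.sum_le_sum fun x _ => ?_
          rw [← Finset.mul_sum]
          refine mul_le_mul_of_nonneg_left ?_ (Nat.cast_nonneg _)
          haveI := Fintype.ofFinite (Subgroup.centralizer ({x} : Set G))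
          exact sum_parts_le hM (S x) (fun γ hγ => (Finset.mem_filter.1 hγ).2)
            (ZStar.Principal.isClassFunction_shift x (irr_isClassFunction χ))
      _ ≤ (Nat.card G : ℝ) * H.relIndex T := by
          rw [← Finset.mul_sum, mul_comm (Nat.card G : ℝ)]
          exact mul_le_mul_of_nonneg_left
            (sum_sections_le hM.1 χ X fun x hx => (Finset.mem_filter.1 hx).2) (Nat.cast_nonneg _)
  exact le_of_mul_le_mul_left hmain (Nat.cast_pos.2 Nat.card_pos)

set_option maxHeartbeats 1000000 in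
/-- `p ^ h * |Z(D)| ≤ p ^ d * e`. -/
theorem height_centre_le (hM : Cfsg.IsPModular p M)
    (hH : H = D ⊔ Subgroup.centralizer (D : Set G))
    (hD : Cfsg.IsDefectGroup p M B D) (hind : Cfsg.IsInducedBlock M H b B) {T : Subgroup G}
    (hT : ∀ g : G, g ∈ T ↔ (g ∈ Subgroup.normalizer (D : Set G) ∧ ∀ θ ∈ b,
      ∀ θ' : Cfsg.IrrCharacter H, (∀ h h' : H, (h' : G) = g * h * g⁻¹ →
        (θ' : H → ℂ) h' = (θ : H → ℂ) h) → θ' ∈ b))
    {χ : Cfsg.IrrCharacter G} (hχ : χ ∈ B) :
    p ^ Cfsg.blockHeight p B (χ : G → ℂ) * Nat.card (Subgroup.center D) ≤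
      p ^ Cfsg.blockDefect p B * H.relIndex T := by
  classical
  haveI := Fintype.ofFinite G
  haveI := fact_prime_of_pm hM
  have hDH : D ≤ H := hH ▸ le_sup_left
  set Z := Finset.univ.filter fun z : G => z ∈ D ∧ ∀ w ∈ D, z * w = w * z with hZdef
  have hZc : ∀ z ∈ Z, z ∈ D ∧ H ≤ Subgroup.centralizer ({z} : Set G) := fun z hz => by
    obtain ⟨hz1, hz2⟩ := (Finset.mem_filter.1 hz).2
    refine ⟨hz1, hH ▸ sup_le (fun w hw => ?_) fun w hw => ?_⟩
    · exact Subgroup.mem_centralizer_singleton_iff.2 (hz2 w hw).symm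
    · exact Subgroup.mem_centralizer_singleton_iff.2 (Subgroup.mem_centralizer_iff.1 hw z hz1).symm
  have hcardZ : Z.card = Nat.card (Subgroup.center D) := by
    rw [← Nat.card_eq_finsetCard]
    refine Nat.card_congr
      { toFun := fun z => ⟨⟨z, (Finset.mem_filter.1 z.2).2.1⟩,
          Subgroup.mem_center_iff.2 fun w => Subtype.ext ((Finset.mem_filter.1 z.2).2.2 w w.2).symm⟩
        invFun := fun z => ⟨(z : D), Finset.mem_filter.2 ⟨Finset.mem_univ _, (z : D).2, fun w hw =>
          congrArg Subtype.val (Subgroup.mem_center_iff.1 z.2 ⟨w, hw⟩).symm⟩⟩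
        left_inv := fun _ => rfl
        right_inv := fun _ => rfl }
  -- the induced blocks of the centralisers
  have hch : ∀ C : Subgroup G, ∃ β : Set (Cfsg.IrrCharacter C), H ≤ C → IsUp M H b C β := fun C => by
    by_cases hC : H ≤ C
    · obtain ⟨β, hβ⟩ := exists_up hM hH (isPGroup_defect hD) hind.1 hC
      exact ⟨β, fun _ => hβ⟩
    · exact ⟨∅, fun h => absurd h hC⟩
  choose β hβ using hch
  set d := Cfsg.blockDefect p B
  set h := Cfsg.blockHeight p B (χ : G → ℂ)
  set W : G → ℂ := fun z => selfW p (Subgroup.centralizer ({z} : Set G))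
    (β (Subgroup.centralizer ({z} : Set G))) z (χ : G → ℂ) with hWdef
  -- roots of unity
  obtain ⟨m, hm⟩ := (isPGroup_defect hD).exists_card_eq
  set q := p ^ m with hqdef
  have hq0 : q ≠ 0 := pow_ne_zero _ hM.1.ne_zero
  haveI : NeZero q := ⟨hq0⟩
  have hzq : ∀ z ∈ Z, z ^ q = 1 := fun z hz => by
    rw [← hm]
    exact congrArg Subtype.val (pow_card_eq_one' (x := (⟨z, (hZc z hz).1⟩ : D)))
  have hel : ∀ z ∈ Z, ∃ k : ℕ, orderOf z = p ^ k := fun z hz => by
    obtain ⟨j, -, hj⟩ := (Nat.dvd_prime_pow hM.1).1 (orderOf_dvd_of_pow_eq_one (hzq z hz))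
    exact ⟨j, hj⟩
  have hindz : ∀ z ∈ Z, Cfsg.IsInducedBlock M (Subgroup.centralizer ({z} : Set G))
      (β (Subgroup.centralizer ({z} : Set G))) B :=
    fun z hz => up_induced hM (hβ _ (hZc z hz).2) hind
  have hdefz : ∀ z ∈ Z, Cfsg.blockDefect p (β (Subgroup.centralizer ({z} : Set G))) = d :=
    fun z hz => (up_defect hM hH hD hind (hβ _ (hZc z hz).2)).2
  set ζ := Complex.exp (2 * Real.pi * Complex.I / q)
  have hζ : IsPrimitiveRoot ζ q := Complex.isPrimitiveRoot_exp q hq0
  have hroot : ∀ μ ∈ primitiveRoots q ℂ, ∃ k, k.Coprime q ∧ ζ ^ k = μ := fun μ hμ => by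
    obtain ⟨k, _, hk, hk'⟩ := (hζ.isPrimitiveRoot_iff (ξ := μ) (k := q)).1
      ((mem_primitiveRoots (Nat.pos_of_ne_zero hq0)).1 hμ)
    exact ⟨k, hk, hk'⟩
  choose! k hk hk' using hroot
  have hZpow : ∀ μ ∈ primitiveRoots q ℂ, ∀ z ∈ Z, z ^ k μ ∈ Z := fun μ _ z hz => by
    obtain ⟨h1, h2⟩ := (Finset.mem_filter.1 hz).2
    exact Finset.mem_filter.2 ⟨Finset.mem_univ _, pow_mem h1 _,
      fun w hw => ((show Commute z w from h2 w hw).pow_left _).eq⟩
  have hperm : ∀ μ ∈ primitiveRoots q ℂ,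
      ∑ z ∈ Z, (W (z ^ k μ)).re = ∑ z ∈ Z, (W z).re := by
    intro μ hμ
    have hinj : Set.InjOn (fun z : G => z ^ k μ) Z := by
      intro a ha c hc hac
      simp only at hac
      have hcop : ∀ w ∈ Z, (k μ).Coprime (orderOf w) := fun w hw =>
        (hk μ hμ).coprime_dvd_right (orderOf_dvd_of_pow_eq_one (hzq w hw))
      have hwq : (a⁻¹ * c) ^ q = 1 := by
        have hac' : Commute a c := (Finset.mem_filter.1 ha).2.2 c (Finset.mem_filter.1 hc).2.1
        rw [hac'.inv_left.mul_pow, inv_pow, hzq a ha, hzq c hc, inv_one, one_mul]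
      have hwk : (a⁻¹ * c) ^ k μ = 1 := by
        have hac' : Commute a c := (Finset.mem_filter.1 ha).2.2 c (Finset.mem_filter.1 hc).2.1
        rw [hac'.inv_left.mul_pow, inv_pow, hac, inv_mul_cancel]
      have h1 := Nat.dvd_gcd (orderOf_dvd_of_pow_eq_one hwk) (orderOf_dvd_of_pow_eq_one hwq)
      rw [(hk μ hμ).gcd_eq_one, Nat.dvd_one, orderOf_eq_one_iff] at h1
      exact inv_mul_eq_one.1 h1
    have himg : Z.image (fun z : G => z ^ k μ) = Z :=
      Finset.eq_of_subset_of_card_le (fun w hw => by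
        obtain ⟨z, hz, rfl⟩ := Finset.mem_image.1 hw
        exact hZpow μ hμ z hz) (by rw [Finset.card_image_of_injOn hinj])
    conv_rhs => rw [← himg]
    rw [Finset.sum_image hinj]
  have hkey : ∀ z ∈ Z, ((primitiveRoots q ℂ).card : ℝ) * (p : ℝ) ^ h ≤
      ∑ μ ∈ primitiveRoots q ℂ, (W (z ^ k μ)).re := by
    intro z hz
    obtain ⟨P, hPint, hP⟩ := exists_poly hM (hindz z hz).1 (u := Subsection.own z)
      (Subsection.self_commute z) hq0 (Subtype.ext (by simpa [Subsection.own] using hzq z hz)) hζ χ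
    have hval : ∀ μ ∈ primitiveRoots q ℂ, aeval μ P = W (z ^ k μ) := by
      intro μ hμ
      have hC : Subgroup.centralizer ({z ^ k μ} : Set G) = Subgroup.centralizer ({z} : Set G) := by
        refine le_antisymm (fun w hw => ?_) fun w hw => ?_
        · obtain ⟨i, hi⟩ := exists_pow_eq_self_of_coprime
            ((hk μ hμ).coprime_dvd_right (orderOf_dvd_of_pow_eq_one (hzq z hz)))
          rw [← hi]
          exact Subgroup.mem_centralizer_singleton_iff.2
            ((show Commute w (z ^ k μ) from Subgroup.mem_centralizer_singleton_iff.1 hw).pow_right i).eq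
        · exact Subgroup.mem_centralizer_singleton_iff.2
            ((show Commute w z from Subgroup.mem_centralizer_singleton_iff.1 hw).pow_right _).eq
      conv_lhs => rw [← hk' μ hμ, hP]
      exact (congrArg (fun C => selfW p C (β C) (z ^ k μ) (χ : G → ℂ)) hC).symm
    refine mean_ge hM (Nat.pos_of_ne_zero hq0) P h (fun μ => (W (z ^ k μ)).re)
      (fun μ hμ => hPint μ ((mem_primitiveRoots (Nat.pos_of_ne_zero hq0)).1 hμ).pow_eq_one)
      (fun μ hμ => ?_) fun μ hμ => ?_
    · have hz' := hZpow μ hμ z hz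
      obtain ⟨r, hr, he, -⟩ := selfW_real (p := p) (Subgroup.centralizer ({z ^ k μ} : Set G))
        (β (Subgroup.centralizer ({z ^ k μ} : Set G))) (z ^ k μ) (χ : G → ℂ)
      have hne := selfW_ne_zero hM (hel _ hz') (hindz _ hz') (hdefz _ hz') hχ
      rw [hval μ hμ]
      simp only [W]
      rw [he, Complex.ofReal_re]
      refine ⟨lt_of_le_of_ne hr fun h0 => hne ?_, rfl⟩
      rw [he, ← h0, Complex.ofReal_zero]
    · have hz' := hZpow μ hμ z hz
      rw [hval μ hμ]
      exact selfW_div_ring hM (hel _ hz') (hindz _ hz') (hdefz _ hz') hχ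
  have h1 : (Z.card : ℝ) * (((primitiveRoots q ℂ).card : ℝ) * (p : ℝ) ^ h) ≤
      ((primitiveRoots q ℂ).card : ℝ) * ((p : ℝ) ^ d * (H.relIndex T : ℝ)) := by
    have := Finset.sum_le_sum hkey
    rw [Finset.sum_const, nsmul_eq_mul, Finset.sum_comm, Finset.sum_congr rfl hperm,
      Finset.sum_const, nsmul_eq_mul] at this
    refine this.trans (mul_le_mul_of_nonneg_left ?_ (Nat.cast_nonneg _))
    exact sum_centre_le hM hH hD hind hT Z hZc β (fun z hz => hβ _ (hZc z hz).2) χ
  have hpr : (0 : ℝ) < ((primitiveRoots q ℂ).card : ℝ) := by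
    exact_mod_cast Finset.card_pos.2 ⟨ζ, (mem_primitiveRoots (Nat.pos_of_ne_zero hq0)).2 hζ⟩
  rw [← hcardZ]
  have h2 : (p : ℝ) ^ h * (Z.card : ℝ) ≤ (p : ℝ) ^ d * (H.relIndex T : ℝ) := by
    refine le_of_mul_le_mul_left ?_ hpr
    linarith
  exact_mod_cast h2

end Cfsg.Agent.BlockCharsA.HeightInertial
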